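import Groth.Agent.SmoothFree.Irred
import Groth.Agent.DevEtale.Main
import Groth.Agent.DevEtale.FP
import Groth.Agent.S1204

/-! Flatness at the point of a complete dévissage gives freeness over the local base. -/

set_option autoImplicit false
set_option backward.isDefEq.respectTransparency false
set_option backward.isDefEq.respectTransparency.types false
attribute [-instance] CategoryTheory.catToReflQuiver

universe u

open IsLocalRing TensorProduct

namespace Groth.Agent.DevFree

section Transfer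

variable (R : Type u) {D C G : Type u} [CommRing R] [CommRing D] [CommRing C] [Algebra R D] [Algebra D C]
  [Algebra R C] [IsScalarTower R D C] [AddCommGroup G] [Module C G] [Module D G] [IsScalarTower D C G]
  [Module R G] [IsScalarTower R C G] [IsScalarTower R D G]

theorem flatAt_iff_of_unique [Module.Finite D C] (y : Ideal D) [y.IsPrime] (z : Ideal C) [z.IsPrime] [z.LiesOver y]
    (huniq : ∀ (z₁ : Ideal C) [z₁.IsPrime], z₁.LiesOver y → z₁ = z) :
    FlatCA.FlatAt R y G ↔ FlatCA.FlatAt R z G :=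
  DevEtale.flat_localized_iff_restrict R y.primeCompl z.primeCompl
    (fun _ hd h => hd ((Ideal.over_def z y) ▸ h))
    fun c hc => DevEtale.exists_dvd_of_unique y z huniq c hc

theorem flatAt_iff_of_surjective (hs : Function.Surjective (algebraMap D C)) (y : Ideal D) [y.IsPrime] (z : Ideal C)
    [z.IsPrime] (hz : z.comap (algebraMap D C) = y) : FlatCA.FlatAt R y G ↔ FlatCA.FlatAt R z G :=
  DevEtale.flat_localized_iff_restrict R y.primeCompl z.primeCompl
    (fun _ hd h => hd (hz ▸ h)) fun c hc => by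
      obtain ⟨d, rfl⟩ := hs c
      exact ⟨1, d, fun h => hc (hz.symm ▸ h : d ∈ z.comap (algebraMap D C)), mul_one _⟩

theorem flatAt_equiv {G' : Type u} [AddCommGroup G'] [Module D G'] [Module R G'] [IsScalarTower R D G']
    (e : G ≃ₗ[D] G') (y : Ideal D) [y.IsPrime] : FlatCA.FlatAt R y G ↔ FlatCA.FlatAt R y G' := by
  haveI : IsLocalizedModule y.primeCompl ((LocalizedModule.mkLinearMap y.primeCompl G').comp e.toLinearMap) :=
    IsLocalizedModule.of_linearEquiv_right y.primeCompl (LocalizedModule.mkLinearMap y.primeCompl G') e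
  exact Module.Flat.equiv_iff ((IsLocalizedModule.linearEquiv y.primeCompl (LocalizedModule.mkLinearMap y.primeCompl G)
    ((LocalizedModule.mkLinearMap y.primeCompl G').comp e.toLinearMap)).restrictScalars R)

end Transfer

/-- Finitely presented modules over a finitely presented quotient. -/
theorem finitePresentation_of_surjective_algebra (S A M : Type u) [CommRing S] [CommRing A] [Algebra S A]
    [Algebra.FinitePresentation S A] [AddCommGroup M] [Module S M] [Module A M] [IsScalarTower S A M]
    (hs : Function.Surjective (algebraMap S A)) [Module.FinitePresentation A M] : Module.FinitePresentation S M := by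
  haveI : Module.FinitePresentation S A := Module.finitePresentation_of_surjective (Algebra.linearMap S A) hs
    (Algebra.FinitePresentation.ker_fG_of_surjective (Algebra.ofId S A) hs)
  exact Module.FinitePresentation.trans S M A

/-- A free family of indices split at the first. -/
noncomputable def piSucc (R : Type u) [CommRing R] (F : ℕ → Type u) [∀ l, AddCommGroup (F l)] [∀ l, Module R (F l)]
    (i k : ℕ) : (F i × ∀ j : Fin k, F (i + 1 + j)) ≃ₗ[R] ∀ j : Fin (k + 1), F (i + j) :=
  ((LinearEquiv.cast (R := R) (M := F) (show i = i + ((0 : Fin (k + 1)) : ℕ) by simp)).prodCongr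
    (LinearEquiv.piCongrRight fun j : Fin k => LinearEquiv.cast (R := R) (M := F)
      (show i + 1 + (j : ℕ) = i + ((j.succ : Fin (k + 1)) : ℕ) by simp [Fin.val_succ]; omega))).trans
    (Fin.consLinearEquiv R fun j : Fin (k + 1) => F (i + j))

variable {R : Type u} [CommRing R] [IsLocalRing R]

theorem univInj_of_flatAt {B : Type u} [CommRing B] [Algebra R B] [Algebra.Smooth R B]
    (hirr : FlatCA.GeomIrredFibres R B) (M : Type u) [AddCommGroup M] [Module B M] [Module R M] [IsScalarTower R B M]
    [Module.Finite B M] [((maximalIdeal R).map (algebraMap R B)).IsPrime] (y : Ideal B) [y.IsPrime]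
    [y.LiesOver (maximalIdeal R)] (r : ℕ) (α : (Fin r → B) →ₗ[B] M)
    (hα : Function.Bijective (α.baseChange ((maximalIdeal R).map (algebraMap R B)).ResidueField))
    (hflat : FlatCA.FlatAt R y M) :
    Function.Injective α ∧ FlatCA.FlatAt R y (M ⧸ LinearMap.range α) := by
  have h := ((Groth.Agent.S1204.result (SmoothFree.geomIntegral_of_smooth hirr) y M).2 r α hα).out 0 2
  exact h.1 hflat

theorem free_pi_fin {B : Type u} [CommRing B] [Algebra R B] [Algebra.Smooth R B] (hirr : FlatCA.GeomIrredFibres R B)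
    (r : ℕ) : Module.Free R (Fin r → B) := by
  haveI := SmoothFree.free_of_geomIrred hirr
  infer_instance

set_option maxHeartbeats 1600000 in
theorem steps {S : Type u} [CommRing S] [Algebra R S] {N : Type u} [AddCommGroup N] [Module S N] {q : Ideal S}
    [q.IsPrime] (D : FlatCA.CompleteDevissage R S N (maximalIdeal R))
    (𝒜 : FlatCA.CompleteDevissageAt R S N (maximalIdeal R) q D) :
    ∀ (k i : ℕ), i + k + 1 = D.n → (haveI := 𝒜.hqB i; FlatCA.FlatAt R (𝒜.qB i) (D.M i)) →
      Module.FinitePresentation (D.B i) (D.M i) ∧ Module.Free R (D.M i) ∧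
        Nonempty (D.M i ≃ₗ[R] ∀ j : Fin (k + 1), Fin (D.r (i + j)) → D.B (i + j)) := by
  intro k
  induction k with
  | zero =>
    intro i hi hflat
    have hlt : i < D.n := by omega
    haveI := D.smooth i hlt
    haveI := D.finiteBA i hlt
    haveI := D.finiteM i hlt
    haveI : Module.Finite (D.B i) (D.M i) := Module.Finite.trans (D.A i) (D.M i)
    haveI := 𝒜.hqB i
    haveI := 𝒜.overB i
    obtain ⟨hinj, -⟩ := univInj_of_flatAt (D.geomIrred i hlt) (D.M i) (𝒜.qB i) (D.r i) (D.α i) (D.fibreIso i hlt) hflat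
    have hsurj : Function.Surjective (D.α i) := by
      have h := D.cokerLast
      rwa [show D.n - 1 = i by omega] at h
    let e := LinearEquiv.ofBijective (D.α i) ⟨hinj, hsurj⟩
    haveI := free_pi_fin (D.geomIrred i hlt) (D.r i)
    refine ⟨Module.FinitePresentation.of_equiv e, Module.Free.of_equiv (e.restrictScalars R), ⟨?_⟩⟩
    exact (e.restrictScalars R).symm.trans (((LinearEquiv.uniqueProd (R := R)).symm.trans (LinearEquiv.prodComm R _ _)).trans
      (piSucc R (fun l => Fin (D.r l) → D.B l) i 0))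
  | succ k ih =>
    intro i hi hflat
    have hlt : i < D.n := by omega
    have hlt' : i + 1 < D.n := by omega
    haveI := D.smooth i hlt
    haveI := D.finiteBA i hlt
    haveI := D.finiteM i hlt
    haveI := D.finiteBA (i + 1) hlt'
    haveI := D.fpBA' i hlt'
    haveI : Module.Finite (D.B i) (D.M i) := Module.Finite.trans (D.A i) (D.M i)
    haveI := 𝒜.hqB i
    haveI := 𝒜.overB i
    haveI := 𝒜.hqB (i + 1)
    haveI := 𝒜.hqA (i + 1)
    haveI := 𝒜.overA (i + 1)
    haveI : IsScalarTower R (D.A (i + 1)) (D.M (i + 1)) := IsScalarTower.to₁₃₄ R (D.B (i + 1)) (D.A (i + 1)) (D.M (i + 1))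
    haveI : IsScalarTower R (D.B i) (D.M (i + 1)) := IsScalarTower.to₁₂₄ R (D.B i) (D.A (i + 1)) (D.M (i + 1))
    obtain ⟨hinj, hC⟩ := univInj_of_flatAt (D.geomIrred i hlt) (D.M i) (𝒜.qB i) (D.r i) (D.α i) (D.fibreIso i hlt) hflat
    have h₁ : FlatCA.FlatAt R (𝒜.qB i) (D.M (i + 1)) := (flatAt_equiv R (D.isoCoker i hlt') _).1 hC
    have h₂ : FlatCA.FlatAt R (𝒜.qA (i + 1)) (D.M (i + 1)) :=
      (flatAt_iff_of_surjective R (D.surjBA' i hlt') (𝒜.qB i) (𝒜.qA (i + 1)) (𝒜.qStep i hlt')).1 h₁
    have h₃ : FlatCA.FlatAt R (𝒜.qB (i + 1)) (D.M (i + 1)) :=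
      (flatAt_iff_of_unique R (𝒜.qB (i + 1)) (𝒜.qA (i + 1)) (𝒜.uniq (i + 1) hlt')).2 h₂
    obtain ⟨hfp, hfree, ⟨e'⟩⟩ := ih (i + 1) (by omega) h₃
    haveI := hfp; haveI := hfree
    haveI := DevEtale.fp_of_fp_restrictScalars (D.B (i + 1)) (D.A (i + 1)) (D.M (i + 1))
    haveI : Module.FinitePresentation (D.B i) (D.M (i + 1)) :=
      finitePresentation_of_surjective_algebra (D.B i) (D.A (i + 1)) (D.M (i + 1)) (D.surjBA' i hlt')
    let c : D.M i →ₗ[D.B i] D.M (i + 1) := (D.isoCoker i hlt').toLinearMap.comp (LinearMap.range (D.α i)).mkQ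
    have hc : Function.Surjective c := (D.isoCoker i hlt').surjective.comp (Submodule.mkQ_surjective _)
    have hker : LinearMap.ker c = LinearMap.range (D.α i) := by
      rw [LinearMap.ker_comp, LinearEquiv.ker, Submodule.comap_bot, Submodule.ker_mkQ]
    haveI : Module.FinitePresentation (D.B i) (LinearMap.ker c) :=
      Module.FinitePresentation.of_equiv ((LinearEquiv.ofInjective (D.α i) hinj).trans (LinearEquiv.ofEq _ _ hker.symm))
    have hfpM : Module.FinitePresentation (D.B i) (D.M i) := Module.finitePresentation_of_ker c hc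
    obtain ⟨s, hs⟩ := Module.projective_lifting_property (c.restrictScalars R) LinearMap.id hc
    let Φ : ((Fin (D.r i) → D.B i) × D.M (i + 1)) →ₗ[R] D.M i := ((D.α i).restrictScalars R).coprod s
    have hs' : ∀ x, c (s x) = x := fun x => LinearMap.congr_fun hs x
    have hcα : ∀ x, c (D.α i x) = 0 := fun x => by
      rw [← LinearMap.mem_ker, hker]
      exact LinearMap.mem_range_self _ x
    have hΦ : Function.Bijective Φ := by
      constructor
      · rw [injective_iff_map_eq_zero]
        rintro ⟨x, y⟩ h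
        have h : D.α i x + s y = 0 := h
        have hy : y = 0 := by
          have h' := congrArg c h
          rwa [map_add, hcα, hs', zero_add, map_zero] at h'
        rw [hy, map_zero, add_zero] at h
        exact Prod.ext (hinj (h.trans (map_zero _).symm)) hy
      · intro m
        obtain ⟨x, hx⟩ : m - s (c m) ∈ LinearMap.range (D.α i) := by
          rw [← hker, LinearMap.mem_ker, map_sub, hs', sub_self]
        exact ⟨(x, c m), show D.α i x + s (c m) = m by rw [hx, sub_add_cancel]⟩
    let eΦ := LinearEquiv.ofBijective Φ hΦ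
    haveI := free_pi_fin (D.geomIrred i hlt) (D.r i)
    refine ⟨hfpM, Module.Free.of_equiv eΦ, ⟨?_⟩⟩
    exact eΦ.symm.trans (((LinearEquiv.refl R (Fin (D.r i) → D.B i)).prodCongr e').trans
      (piSucc R (fun l => Fin (D.r l) → D.B l) i (k + 1)))

theorem free_of_completeDevissageAt {S : Type u} [CommRing S] [Algebra R S] (N : Type u) [AddCommGroup N]
    [Module S N] [Module R N] [IsScalarTower R S N] (q : Ideal S) [q.IsPrime]
    (hflat : FlatCA.FlatAt R q N) (D : FlatCA.CompleteDevissage R S N (maximalIdeal R))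
    (𝒜 : FlatCA.CompleteDevissageAt R S N (maximalIdeal R) q D) :
    Module.FinitePresentation S N ∧ Module.Free R N ∧
      Nonempty (N ≃ₗ[R] (∀ i : Fin D.n, Fin (D.r i) → D.B i)) := by
  haveI := D.finiteBA 0 D.pos
  haveI := 𝒜.hqA 0
  haveI := 𝒜.hqB 0
  haveI := 𝒜.overA 0
  haveI := D.fpSA
  haveI : IsScalarTower R (D.A 0) (D.M 0) := IsScalarTower.to₁₃₄ R (D.B 0) (D.A 0) (D.M 0)
  haveI : IsScalarTower R S (D.M 0) := IsScalarTower.to₁₂₄ R S (D.A 0) (D.M 0)
  have h₁ : FlatCA.FlatAt R q (D.M 0) := (flatAt_equiv R D.isoN q).1 hflat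
  have h₂ : FlatCA.FlatAt R (𝒜.qA 0) (D.M 0) := (flatAt_iff_of_surjective R D.surjSA q (𝒜.qA 0) 𝒜.q0).1 h₁
  have h₃ : FlatCA.FlatAt R (𝒜.qB 0) (D.M 0) :=
    (flatAt_iff_of_unique R (𝒜.qB 0) (𝒜.qA 0) (𝒜.uniq 0 D.pos)).2 h₂
  obtain ⟨m, hm⟩ : ∃ m, D.n = m + 1 := ⟨D.n - 1, by have := D.pos; omega⟩
  obtain ⟨hfp, hfree, ⟨e⟩⟩ := steps D 𝒜 m 0 (by omega) h₃
  haveI := hfp; haveI := hfree
  haveI := DevEtale.fp_of_fp_restrictScalars (D.B 0) (D.A 0) (D.M 0)
  haveI := finitePresentation_of_surjective_algebra S (D.A 0) (D.M 0) D.surjSA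
  let eN := D.isoN.restrictScalars R
  refine ⟨Module.FinitePresentation.of_equiv D.isoN.symm, Module.Free.of_equiv eN.symm, ⟨?_⟩⟩
  exact eN.trans (e.trans ((LinearEquiv.piCongrRight fun j : Fin (m + 1) =>
      LinearEquiv.cast (R := R) (M := fun l => Fin (D.r l) → D.B l) (show 0 + (j : ℕ) = (j : ℕ) by omega)).trans
    (LinearEquiv.piCongrLeft R (fun i : Fin D.n => Fin (D.r i) → D.B i) (finCongr hm.symm))))

end Groth.Agent.DevFree
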